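import Groth.Agent.S1028
import Groth.Agent.S1052
import Groth.Agent.S1109
import Groth.Agent.S1111
import Groth.Agent.K0Coh.Regular
import Groth.Agent.CohFinite.ProjSpace
import Groth.Agent.SmLocalST.SmoothField

/-!
K⁰ = K₀ on smooth quasi-projective schemes over a field.
-/

set_option autoImplicit false
set_option linter.style.haveILetI false
set_option backward.isDefEq.respectTransparency false
set_option backward.isDefEq.respectTransparency.types false

universe u

open CategoryTheory Category Limits AlgebraicGeometry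
attribute [local instance] HasDerivedCategory.standard

namespace Groth.Agent.K0Smooth

/-- `K⁰ ≅ K₀` for noetherian regular schemes with affine intersections of affines -/
theorem exists_bijective (X : Scheme.{u}) [IsNoetherian X]
    (hreg : ∀ x : X, IsRegularLocalRing (X.presheaf.stalk x))
    (hdiag : ∀ U V : X.Opens, IsAffineOpen U → IsAffineOpen V → IsAffineOpen (U ⊓ V)) :
    ∃ α : KZero.K0sub (fun M : X.Modules => FlatMod.IsFinLocFree M) →+ KZero.K0sub (fun M : X.Modules => Coh.IsCoh M),
      (∀ E : X.Modules, FlatMod.IsFinLocFree E →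
        α (KZero.clSub (fun M : X.Modules => FlatMod.IsFinLocFree M) E) = KZero.clSub (fun M : X.Modules => Coh.IsCoh M) E) ∧
      Function.Bijective α := by
  have hres := S1109.result X hreg hdiag
  obtain ⟨φ₁, h₁⟩ := S1028.result X hres
  obtain ⟨φ₂, h₂⟩ := S1111.result X hreg
  obtain ⟨φ₃, h₃⟩ := S1052.result X
  refine ⟨((φ₁.trans φ₂).trans φ₃.symm).toAddMonoidHom, fun E hE => ?_,
    ((φ₁.trans φ₂).trans φ₃.symm).bijective⟩
  have hcoh : Coh.IsCoh E := K0Coh.isCoh_of_isFinLocFree hE
  change φ₃.symm (φ₂ (φ₁ _)) = _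
  rw [h₁ E hE, h₂ _ (K0Coh.isPerfect_inD_of_regular hreg hcoh), ← h₃ E hcoh]
  exact φ₃.symm_apply_apply _

/-- for smooth quasi-projective schemes over a field -/
theorem exists_bijective_of_smooth (k : Type u) [Field k] (N : ℕ) (X : Scheme.{u})
    [X.Over (Spec (CommRingCat.of k))] [Smooth (X ↘ Spec (CommRingCat.of k))]
    (ι : X ⟶ CohB1.ProjSpace N k) [IsImmersion ι]
    (hι : ι ≫ CohB1.ProjSpace.toSpec N k = X ↘ Spec (CommRingCat.of k)) :
    ∃ α : KZero.K0sub (fun M : X.Modules => FlatMod.IsFinLocFree M) →+ KZero.K0sub (fun M : X.Modules => Coh.IsCoh M),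
      (∀ E : X.Modules, FlatMod.IsFinLocFree E →
        α (KZero.clSub (fun M : X.Modules => FlatMod.IsFinLocFree M) E) = KZero.clSub (fun M : X.Modules => Coh.IsCoh M) E) ∧
      Function.Bijective α := by
  have := CohFinite.isNoetherian_projSpace (n := N) (R := k)
  have : IsLocallyNoetherian X := LocallyOfFiniteType.isLocallyNoetherian (X ↘ Spec (CommRingCat.of k))
  have : CompactSpace X := by
    have : TopologicalSpace.NoetherianSpace (CohB1.ProjSpace N k) := inferInstance
    exact ⟨ι.isEmbedding.isCompact_iff.mpr (TopologicalSpace.NoetherianSpace.isCompact _)⟩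
  have : IsNoetherian X := {}
  have := ProjMor.isProper_toSpec N k
  have : IsSeparated (X ↘ Spec (CommRingCat.of k)) := by rw [← hι]; infer_instance
  have : X.IsSeparated := ⟨by
    rw [← terminal.comp_from (X ↘ Spec (CommRingCat.of k))]
    infer_instance⟩
  exact exists_bijective X
    (fun x => SmLocalST.isRegularLocalRing_stalk_of_smooth_field (X ↘ Spec (CommRingCat.of k)) x)
    (fun U V hU hV => hU.inf hV)

end Groth.Agent.K0Smooth
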